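import Groth.Agent.Lib.AntiAffSmooth14.Main
import Groth.Agent.S19702

/-!
Anti-affine groups over a field are smooth.
-/

set_option autoImplicit false
set_option backward.isDefEq.respectTransparency false

universe u

open CategoryTheory CategoryTheory.Limits MonoidalCategory CartesianMonoidalCategory MonObj GrpObj AlgebraicGeometry

noncomputable section

namespace GrothLib.AntiAffSmooth14

theorem isReduced_of_isAntiAffine {K : Type u} [Field K] [IsAlgClosed K] (N : Over (Spec (CommRingCat.of K)))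
    [GrpObj N] [LocallyOfFiniteType N.hom] [QuasiCompact N.hom] (hN : GrothLib.AntiAffine.IsAntiAffine N) :
    IsReduced N.left := by
  classical
  haveI : IsLocallyNoetherian N.left := LocallyOfFiniteType.isLocallyNoetherian N.hom
  haveI : CompactSpace N.left := QuasiCompact.compactSpace_of_compactSpace N.hom
  haveI : JacobsonSpace N.left := LocallyOfFiniteType.jacobsonSpace N.hom
  obtain ⟨H, _, j, _, _, _, _⟩ := GrothLib.AffMono14.exists_red N
  haveI : LocallyOfFiniteType H.hom := by rw [← Over.w j]; infer_instance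
  haveI : Smooth H.hom := GrothLib.GrpSchField.smooth_of_perfectField_of_isReduced H
  -- germs of sections in powers of the nilradical
  have hgen : ∀ {U : N.left.Opens} (hU : IsAffineOpen U) (x : N.left) (hx : x ∈ U) (m : ℕ),
      nilradical (N.left.presheaf.stalk x) ^ m =
        (nilradical Γ(N.left, U) ^ m).map (N.left.presheaf.germ U x hx).hom := by
    intro U hU x hx m
    letI := TopCat.Presheaf.algebra_section_stalk N.left.presheaf ⟨x, hx⟩
    haveI := hU.isLocalization_stalk ⟨x, hx⟩
    rw [Ideal.map_pow]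
    exact congrArg (· ^ m) (nilradical_localization (hU.primeIdealOf ⟨x, hx⟩).asIdeal.primeCompl)
  let P : ℕ → Prop := fun m => ∀ x : N.left, nilradical (N.left.presheaf.stalk x) ^ m = ⊥
  have hex : ∃ m, P m := by
    let 𝒰 := N.left.affineCover.finiteSubcover
    haveI : Fintype 𝒰.I₀ := Fintype.ofFinite _
    haveI : ∀ a, IsAffine (𝒰.X a) := fun a => inferInstanceAs (IsAffine (N.left.affineCover.X _))
    have hU : ∀ a, IsAffineOpen (𝒰.f a).opensRange := fun a => isAffineOpen_opensRange (𝒰.f a)
    have : ∀ a, ∃ m, nilradical Γ(N.left, (𝒰.f a).opensRange) ^ m = ⊥ := fun a => by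
      haveI : IsNoetherianRing Γ(N.left, (𝒰.f a).opensRange) := IsLocallyNoetherian.component_noetherian ⟨_, hU a⟩
      obtain ⟨m, hm⟩ := IsNoetherianRing.isNilpotent_nilradical Γ(N.left, (𝒰.f a).opensRange)
      exact ⟨m, hm⟩
    choose m hm using this
    refine ⟨∑ a, m a, fun x => ?_⟩
    obtain ⟨a, y, rfl⟩ := Scheme.Cover.exists_eq 𝒰 x
    rw [hgen (hU a) _ ⟨y, rfl⟩]
    have h : nilradical Γ(N.left, (𝒰.f a).opensRange) ^ (∑ a, m a) = ⊥ :=
      le_bot_iff.1 ((Ideal.pow_le_pow_right (Finset.single_le_sum (fun b _ => Nat.zero_le (m b)) (Finset.mem_univ a))).trans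
        (hm a).le)
    rw [h, Ideal.map_bot]
  haveI : ∀ x, _root_.IsReduced (N.left.presheaf.stalk x) := by
    rcases Nat.find hex |>.eq_zero_or_pos with h0 | hpos
    · intro x
      have h := Nat.find_spec hex x
      rw [h0, pow_zero, Ideal.one_eq_top] at h
      exact absurd h top_ne_bot
    obtain ⟨n, hn⟩ : ∃ n, Nat.find hex = n + 1 := ⟨Nat.find hex - 1, by omega⟩
    have htop : P (n + 1) := hn ▸ Nat.find_spec hex
    rcases Nat.eq_zero_or_pos n with rfl | hn0
    · intro x
      have h := htop x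
      rw [zero_add, pow_one] at h
      exact ⟨fun a ha => Ideal.mem_bot.1 (h ▸ mem_nilradical.2 ha)⟩
    exfalso
    refine Nat.find_min hex (show n < Nat.find hex by omega) fun x => ?_
    have h0 := stalk_nilradical_pow_eq_bot N j hN (IsLocalRing.closedPoint K) hn0.ne' htop
    by_contra hx
    obtain ⟨U, hU, hxU, -⟩ := exists_isAffineOpen_mem_and_subset (show x ∈ (⊤ : N.left.Opens) from trivial)
    obtain ⟨s, hs, hsx⟩ : ∃ s ∈ nilradical Γ(N.left, U) ^ n, N.left.presheaf.germ U x hxU s ≠ 0 := by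
      by_contra! h
      apply hx
      rw [hgen hU x hxU, eq_bot_iff]
      exact Ideal.map_le_iff_le_comap.2 fun s hs => Ideal.mem_bot.2 (h s hs)
    let W : Set N.left := {y | ∃ hy : y ∈ U, N.left.presheaf.germ U y hy s = 0}
    have hW : IsOpen W := by
      refine isOpen_iff_forall_mem_open.2 fun y ⟨hy, hy0⟩ => ?_
      rw [← map_zero (N.left.presheaf.germ U y hy).hom] at hy0
      obtain ⟨V, hyV, iVU, iVU', e⟩ := N.left.presheaf.germ_eq y hy hy s 0 hy0
      refine ⟨V, fun z hz => ⟨iVU.le hz, ?_⟩, V.2, hyV⟩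
      rw [← N.left.presheaf.germ_res_apply iVU z hz s, e, map_zero, map_zero]
    have hne : ((U : Set N.left) \ W).Nonempty := ⟨x, hxU, fun ⟨_, h⟩ => hsx h⟩
    obtain ⟨x₀, ⟨hx₀U, hx₀W⟩, hx₀⟩ := nonempty_inter_closedPoints hne
      ((U.2.isLocallyClosed).inter hW.isClosed_compl.isLocallyClosed)
    obtain ⟨a, ha⟩ := GrothLib.GrpSchField.exists_point_of_isClosed (k := K) K hx₀
    let a' : 𝟙_ (Over (Spec (CommRingCat.of K))) ⟶ N := Over.homMk a.left (by
      refine (Over.w a).trans ?_
      show Spec.map (CommRingCat.ofHom (algebraMap K K)) = 𝟙 _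
      rw [show CommRingCat.ofHom (algebraMap K K) = 𝟙 (CommRingCat.of K) from rfl, Spec.map_id])
    have hcomp : ∀ b b' : 𝟙_ (Over (Spec (CommRingCat.of K))) ⟶ N,
        ((toUnit N ≫ b) * 𝟙 N) ≫ ((toUnit N ≫ b') * 𝟙 N) = (toUnit N ≫ (b' * b)) * 𝟙 N := fun b b' => by
      rw [MonObj.comp_mul, Category.comp_id, ← Category.assoc, toUnit_unique (_ ≫ toUnit N) (toUnit N),
        MonObj.comp_mul, _root_.mul_assoc]
    let τ : N ≅ N :=
      { hom := (toUnit N ≫ a') * 𝟙 N
        inv := (toUnit N ≫ a'⁻¹) * 𝟙 N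
        hom_inv_id := by rw [hcomp, inv_mul_cancel, MonObj.comp_one, _root_.one_mul]
        inv_hom_id := by rw [hcomp, mul_inv_cancel, MonObj.comp_one, _root_.one_mul] }
    let e := IsLocalRing.closedPoint K
    have hτ : τ.hom.left (η[N].left e) = x₀ := by
      rw [← Scheme.Hom.comp_apply, ← Over.comp_left]
      have : η[N] ≫ τ.hom = a' := by
        have h1 : η[N] = (1 : 𝟙_ (Over (Spec (CommRingCat.of K))) ⟶ N) := by
          rw [Hom.one_def, toUnit_unique (toUnit _) (𝟙 _), Category.id_comp]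
        show η[N] ≫ ((toUnit N ≫ a') * 𝟙 N) = a'
        rw [MonObj.comp_mul, Category.comp_id, ← Category.assoc,
          toUnit_unique (η[N] ≫ toUnit N) (𝟙 _), Category.id_comp, h1, _root_.mul_one]
      rw [this]; exact ha
    haveI : IsIso τ.hom.left := ((Over.forget _).mapIso τ).isIso_hom
    subst hτ
    have h1 : N.left.presheaf.germ U _ hx₀U s ∈ nilradical (N.left.presheaf.stalk (τ.hom.left (η[N].left e))) ^ n := by
      rw [hgen hU _ hx₀U]; exact Ideal.mem_map_of_mem _ hs
    have h2 := map_nilradical_pow_le (τ.hom.left.stalkMap (η[N].left e)).hom n (Ideal.mem_map_of_mem _ h1)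
    rw [h0, Ideal.mem_bot] at h2
    exact hx₀W ⟨hx₀U, (ConcreteCategory.bijective_of_isIso (τ.hom.left.stalkMap (η[N].left e))).1
      (h2.trans (map_zero _).symm)⟩
  exact isReduced_of_isReduced_stalk N.left

/-- An anti-affine algebraic group is smooth. -/
theorem smooth_of_isAntiAffine {k : Type u} [Field k] (N : Over (Spec (CommRingCat.of k))) [GrpObj N]
    [LocallyOfFiniteType N.hom] [QuasiCompact N.hom] (hN : GrothLib.AntiAffine.IsAntiAffine N) :
    Smooth N.hom := by
  let K := AlgebraicClosure k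
  let b : Spec (CommRingCat.of K) ⟶ Spec (CommRingCat.of k) := Spec.map (CommRingCat.ofHom (algebraMap k K))
  letI : GrpObj (Red.bc b N) := Red.grpObj_bc b N
  haveI : LocallyOfFiniteType (Red.bc b N).hom := inferInstanceAs (LocallyOfFiniteType (pullback.snd N.hom b))
  haveI : QuasiCompact (Red.bc b N).hom := inferInstanceAs (QuasiCompact (pullback.snd N.hom b))
  have hK := (Groth.Agent.S19702.result k K N).1 hN
  haveI := isReduced_of_isAntiAffine (Red.bc b N) hK
  exact MorphismProperty.of_pullback_snd_of_descendsAlong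
    (P := @Smooth) (Q := @Surjective ⊓ @Flat ⊓ @QuasiCompact) (f := N.hom) (g := b)
    ⟨⟨inferInstance, inferInstance⟩, inferInstance⟩
    (GrothLib.GrpSchField.smooth_of_perfectField_of_isReduced (Red.bc b N))

end GrothLib.AntiAffSmooth14
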