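import Groth.Agent.Lib.AntiAffSmooth14.Ring
import Groth.Agent.Lib.AffMono14.Basic
import Groth.Agent.Lib.AntiAffine.Hom
import Groth.Agent.Lib.GrpSchField.Criteria
import Groth.Agent.Lib.GrpSchField.Field
import Groth.Agent.Lib.GrpSchField.Pts
import Mathlib

/-!
An anti-affine group over an algebraically closed field is reduced: otherwise the top power of the nilradical,
an equivariant module on the reduced subgroup, would have a non-zero global section.
-/

set_option autoImplicit false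
set_option backward.isDefEq.respectTransparency false

universe u

open CategoryTheory CategoryTheory.Limits MonoidalCategory CartesianMonoidalCategory MonObj GrpObj AlgebraicGeometry

noncomputable section

namespace GrothLib.AntiAffSmooth14

variable {K : Type u} [Field K]

local notation "S" => Spec (CommRingCat.of K)

theorem ker_appTop_le_nilradical {X Y : Scheme.{u}} (c : Y ⟶ X) [Surjective c] [CompactSpace X] :
    RingHom.ker c.appTop.hom ≤ nilradical Γ(X, ⊤) := fun f hf => by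
  rw [mem_nilradical, Scheme.isNilpotent_iff_basicOpen_eq_bot]
  refine le_bot_iff.1 fun x hx => ?_
  obtain ⟨y, rfl⟩ := c.surjective x
  have h : y ∈ c ⁻¹ᵁ X.basicOpen f := hx
  rw [Scheme.preimage_basicOpen, show c.app ⊤ f = 0 from hf, Scheme.basicOpen_zero] at h
  exact h.elim

/-- A smooth affine scheme is a retract of any of its infinitesimal thickenings. -/
theorem exists_retraction {X Y : Over S} (c : Y ⟶ X) [IsAffine X.left] [IsAffine Y.left] [Smooth Y.hom]
    [IsClosedImmersion c.left] [Surjective c.left] [IsLocallyNoetherian X.left] :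
    ∃ r : X ⟶ Y, c ≫ r = 𝟙 Y := by
  let iK := (Scheme.ΓSpecIso (CommRingCat.of K)).inv
  letI algX : Algebra K Γ(X.left, ⊤) := (iK ≫ X.hom.appTop).hom.toAlgebra
  letI algY : Algebra K Γ(Y.left, ⊤) := (iK ≫ Y.hom.appTop).hom.toAlgebra
  have hw : X.hom.appTop ≫ c.left.appTop = Y.hom.appTop := by rw [← Scheme.Hom.comp_appTop, Over.w c]
  let π : Γ(X.left, ⊤) →ₐ[K] Γ(Y.left, ⊤) :=
    { toRingHom := c.left.appTop.hom
      commutes' := fun a => congrArg (fun q => q.hom (iK.hom a)) hw }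
  have hπ : Function.Surjective π := c.left.app_surjective ⊤ (isAffineOpen_top _)
  haveI : IsNoetherianRing Γ(X.left, ⊤) :=
    IsLocallyNoetherian.component_noetherian ⟨⊤, isAffineOpen_top _⟩
  have hnil : IsNilpotent (RingHom.ker (π : Γ(X.left, ⊤) →+* Γ(Y.left, ⊤))) := by
    obtain ⟨m, hm⟩ := IsNoetherianRing.isNilpotent_nilradical Γ(X.left, ⊤)
    refine ⟨m, le_bot_iff.1 ((Ideal.pow_right_mono (ker_appTop_le_nilradical c.left) m).trans ?_)⟩
    rw [hm]; exact le_rfl
  haveI : Algebra.FormallySmooth K Γ(Y.left, ⊤) := by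
    have h1 : RingHom.Smooth Y.hom.appTop.hom := HasRingHomProperty.appTop (P := @Smooth) Y.hom inferInstance
    have h2 : RingHom.Smooth (iK ≫ Y.hom.appTop).hom := by
      rw [CommRingCat.hom_comp]
      exact RingHom.Smooth.respectsIso.2 Y.hom.appTop.hom
        ((Scheme.ΓSpecIso (CommRingCat.of K)).symm.commRingCatIsoToRingEquiv) h1
    have : Algebra.Smooth K Γ(Y.left, ⊤) := h2
    infer_instance
  let σ : Γ(Y.left, ⊤) →ₐ[K] Γ(X.left, ⊤) :=
    Algebra.FormallySmooth.liftOfSurjective (AlgHom.id K _) π hπ hnil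
  have hσ : CommRingCat.ofHom (σ : Γ(Y.left, ⊤) →+* Γ(X.left, ⊤)) ≫ c.left.appTop = 𝟙 _ := by
    ext a
    exact Algebra.FormallySmooth.liftOfSurjective_apply _ π hπ hnil a
  let r : X.left ⟶ Y.left :=
    X.left.isoSpec.hom ≫ Spec.map (CommRingCat.ofHom (σ : Γ(Y.left, ⊤) →+* Γ(X.left, ⊤))) ≫ Y.left.isoSpec.inv
  have hr : c.left ≫ r = 𝟙 _ := by
    simp only [r]
    rw [← Scheme.isoSpec_hom_naturality_assoc, ← Spec.map_comp_assoc, hσ, Spec.map_id]
    erw [Category.id_comp]
    exact Iso.hom_inv_id _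
  have hrS : r ≫ Y.hom = X.hom := by
    have e : Y.hom.appTop ≫ CommRingCat.ofHom (σ : Γ(Y.left, ⊤) →+* Γ(X.left, ⊤)) = X.hom.appTop := by
      rw [← cancel_epi iK]
      ext a
      exact σ.commutes a
    rw [← cancel_mono (S).isoSpec.hom]
    simp only [r, Category.assoc]
    rw [Scheme.isoSpec_hom_naturality X.hom |>.symm, ← Scheme.isoSpec_hom_naturality Y.hom, Iso.inv_hom_id_assoc,
      ← Spec.map_comp, e]
  exact ⟨Over.homMk r hrS, Over.OverMorphism.ext hr⟩

section Glue

variable (N : Over (Spec (CommRingCat.of K))) [GrpObj N] {H : Over (Spec (CommRingCat.of K))} [GrpObj H]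
  (j : H ⟶ N) [IsMonHom j]

/-- An open of `N`. -/
abbrev opN (U : N.left.Opens) : Over S := Over.mk (U.ι ≫ N.hom)

/-- An open of `H`. -/
abbrev opH (U : N.left.Opens) : Over S := Over.mk ((j.left ⁻¹ᵁ U).ι ≫ H.hom)

/-- The inclusion of an open. -/
abbrev inclN (U : N.left.Opens) : opN N U ⟶ N := Over.homMk U.ι rfl

/-- The inclusion of an open. -/
abbrev inclH (U : N.left.Opens) : opH N j U ⟶ H := Over.homMk (j.left ⁻¹ᵁ U).ι rfl

/-- The reduced structure of an open. -/
abbrev redHom (U : N.left.Opens) : opH N j U ⟶ opN (K := K) N U := Over.homMk (j.left ∣_ U) (by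
  show (j.left ∣_ U) ≫ U.ι ≫ N.hom = _
  rw [morphismRestrict_ι_assoc, Over.w j]; rfl)

theorem redHom_incl (U : N.left.Opens) : redHom N j U ≫ inclN N U = inclH N j U ≫ j :=
  Over.OverMorphism.ext (morphismRestrict_ι _ _)

/-- The product map. -/
abbrev mu : N ⊗ H ⟶ N := fst N H * (snd N H ≫ j)

theorem comp_mu {T : Over S} (y : T ⟶ N) (h : T ⟶ H) : lift y h ≫ mu N j = y * (h ≫ j) := by
  rw [MonObj.comp_mul, lift_fst, lift_snd_assoc]

variable [Smooth H.hom] [IsClosedImmersion j.left] [Surjective j.left] [LocallyOfFiniteType N.hom]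

/-- The invariance estimate. -/
theorem exists_estimate {U₀ : N.left.Opens} (hU₀ : IsAffineOpen U₀) (o : ↥S)
    (he : η[N].left o ∈ U₀) (n : ℕ) :
    ∃ V : (N ⊗ H).left.Opens, (lift (1 : 𝟙_ (Over S) ⟶ N) (1 : 𝟙_ (Over S) ⟶ H)).left o ∈ V ∧
      ∀ {T T₀ : Over S} (c : T₀ ⟶ T) (q q₀ : T ⟶ N ⊗ H), q ≫ fst N H = q₀ ≫ fst N H → c ≫ q = c ≫ q₀ →
        ⊤ ≤ q.left ⁻¹ᵁ V → ⊤ ≤ q₀.left ⁻¹ᵁ V →
        ∀ (h : ⊤ ≤ (q ≫ mu N j).left ⁻¹ᵁ U₀) (h₀ : ⊤ ≤ (q₀ ≫ mu N j).left ⁻¹ᵁ U₀),
        ∀ s ∈ nilradical Γ(N.left, U₀) ^ n,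
          (q ≫ mu N j).left.appLE U₀ ⊤ h s - (q₀ ≫ mu N j).left.appLE U₀ ⊤ h₀ s ∈
            RingHom.ker c.left.appTop.hom * nilradical Γ(T.left, ⊤) ^ n := by
  set p : 𝟙_ (Over S) ⟶ N ⊗ H := lift 1 1
  have h1 : (1 : 𝟙_ (Over S) ⟶ N).left o = η[N].left o := by
    rw [Hom.one_def, toUnit_unique (toUnit (𝟙_ (Over S))) (𝟙 _), Category.id_comp]
  have hp1 : p.left o ∈ (fst N H).left ⁻¹ᵁ U₀ := by
    show (fst N H).left (p.left o) ∈ U₀
    rw [← Scheme.Hom.comp_apply, ← Over.comp_left, lift_fst, h1]; exact he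
  have hp2 : p.left o ∈ (mu N j).left ⁻¹ᵁ U₀ := by
    show (mu N j).left (p.left o) ∈ U₀
    rw [← Scheme.Hom.comp_apply, ← Over.comp_left, comp_mu, MonObj.one_comp, _root_.mul_one, h1]; exact he
  obtain ⟨V, hV, hpV, hle⟩ := exists_isAffineOpen_mem_and_subset
    (show p.left o ∈ (fst N H).left ⁻¹ᵁ U₀ ⊓ (mu N j).left ⁻¹ᵁ U₀ from ⟨hp1, hp2⟩)
  have hle1 : V ≤ (fst N H).left ⁻¹ᵁ U₀ := fun x hx => (hle hx).1
  have hle2 : V ≤ (mu N j).left ⁻¹ᵁ U₀ := fun x hx => (hle hx).2
  refine ⟨V, hpV, fun {T T₀} c q q₀ hq hc hqV hq₀V h h₀ s hs => ?_⟩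
  haveI : Smooth (fst N H).left := inferInstanceAs (Smooth (pullback.fst N.hom H.hom))
  let f := (fst N H).left.appLE U₀ V hle1
  have hf : RingHom.Smooth f.hom := HasRingHomProperty.appLE (P := @Smooth) _ inferInstance ⟨U₀, hU₀⟩ ⟨V, hV⟩ hle1
  let φ := q.left.appLE V ⊤ hqV
  let φ₀ := q₀.left.appLE V ⊤ hq₀V
  have e : (q ≫ mu N j).left.appLE U₀ ⊤ h = (mu N j).left.appLE U₀ V hle2 ≫ φ := by
    simp only [φ, Scheme.Hom.appLE_comp_appLE]; rfl
  have e₀ : (q₀ ≫ mu N j).left.appLE U₀ ⊤ h₀ = (mu N j).left.appLE U₀ V hle2 ≫ φ₀ := by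
    simp only [φ₀, Scheme.Hom.appLE_comp_appLE]; rfl
  have hx : (mu N j).left.appLE U₀ V hle2 s ∈ (nilradical Γ(N.left, U₀) ^ n).map f.hom := by
    have h2 := map_nilradical_pow_le ((mu N j).left.appLE U₀ V hle2).hom n (Ideal.mem_map_of_mem _ hs)
    rw [Ideal.map_pow]
    exact Ideal.pow_right_mono (nilradical_le_of_smooth f.hom hf) n h2
  have hB : φ.hom.comp f.hom = φ₀.hom.comp f.hom := by
    have : f ≫ φ = f ≫ φ₀ := by
      simp only [f, φ, φ₀, Scheme.Hom.appLE_comp_appLE]
      congr 1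
      exact congrArg (fun g => g.left) hq
    exact congrArg (fun g => g.hom) this
  rw [e, e₀]
  refine sub_mem_of_congr f.hom φ.hom φ₀.hom hB _ (fun d => ?_) hx
  rw [RingHom.mem_ker, map_sub, sub_eq_zero]
  have hct : c.left.appTop = c.left.appLE ⊤ ⊤ le_top := Scheme.Hom.app_eq_appLE _
  have : φ ≫ c.left.appTop = φ₀ ≫ c.left.appTop := by
    rw [hct]
    simp only [φ, φ₀, Scheme.Hom.appLE_comp_appLE]
    congr 1
    exact congrArg (fun g => g.left) hc
  exact congr($this d)

theorem exists_ret {U : N.left.Opens} (hU : IsAffineOpen U) :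
    ∃ r : opN N U ⟶ H, redHom N j U ≫ r = inclH N j U := by
  haveI : IsAffine (opN N U).left := hU
  haveI : IsAffine (opH N j U).left := hU.preimage j.left
  haveI : IsClosedImmersion (redHom N j U).left :=
    IsZariskiLocalAtTarget.restrict (P := @IsClosedImmersion) ‹_› U
  haveI : Surjective (redHom N j U).left := IsZariskiLocalAtTarget.restrict (P := @Surjective) ‹_› U
  haveI : Smooth (opH N j U).hom := inferInstanceAs (Smooth ((j.left ⁻¹ᵁ U).ι ≫ H.hom))
  haveI : IsLocallyNoetherian (opN N U).left := by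
    haveI : IsLocallyNoetherian N.left := LocallyOfFiniteType.isLocallyNoetherian N.hom
    exact LocallyOfFiniteType.isLocallyNoetherian U.ι
  obtain ⟨r, hr⟩ := exists_retraction (redHom N j U)
  exact ⟨r ≫ inclH N j U, by rw [← Category.assoc, hr, Category.id_comp]⟩

theorem one_left_apply {T : Over S} (t : T.left) (o : ↥S) :
    (1 : T ⟶ N).left t = η[N].left o := by
  rw [Hom.one_def, Over.comp_left, Scheme.Hom.comp_apply]
  exact congrArg η[N].left (Subsingleton.elim (α := S) _ _)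

/-- The translate of the inclusion into the infinitesimal neighbourhood of the origin. -/
abbrev toInf {U : N.left.Opens} (r : opN N U ⟶ H) : opN N U ⟶ N := inclN N U * (r ≫ j)⁻¹

theorem red_toInf {U : N.left.Opens} {r : opN N U ⟶ H} (hr : redHom N j U ≫ r = inclH N j U) :
    redHom N j U ≫ toInf N j r = 1 := by
  rw [MonObj.comp_mul, GrpObj.comp_inv, redHom_incl, reassoc_of% hr, mul_inv_cancel]

theorem range_of_red {T T₀ X : Over S} (c : T₀ ⟶ T) [Surjective c.left] (q : T ⟶ X) (x : X.left)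
    (hx : ∀ z, (c ≫ q).left z = x) (V : X.left.Opens) (hV : x ∈ V) : ⊤ ≤ q.left ⁻¹ᵁ V := fun t _ => by
  obtain ⟨z, rfl⟩ := c.left.surjective t
  show q.left (c.left z) ∈ V
  rw [← Scheme.Hom.comp_apply, ← Over.comp_left, hx]
  exact hV

include j in
set_option maxHeartbeats 2000000 in
/-- An anti-affine group over an algebraically closed field, with smooth reduced subgroup of full support, has
vanishing top power of the nilradical at the origin. -/
theorem stalk_nilradical_pow_eq_bot [QuasiCompact N.hom]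
    (hN : GrothLib.AntiAffine.IsAntiAffine N) (o : ↥S) {n : ℕ} (hn : n ≠ 0)
    (htop : ∀ x : N.left, nilradical (N.left.presheaf.stalk x) ^ (n + 1) = ⊥) :
    nilradical (N.left.presheaf.stalk (η[N].left o)) ^ n = ⊥ := by
  haveI : IsLocallyNoetherian N.left := LocallyOfFiniteType.isLocallyNoetherian N.hom
  haveI : IsSeparated N.hom := GrothLib.GrpSchField.isSeparated N
  haveI : N.left.IsSeparated := ⟨by rw [← terminal.comp_from N.hom]; infer_instance⟩
  have hzero : ∀ {W : N.left.Opens}, IsAffineOpen W → ∀ x ∈ nilradical Γ(N.left, W) ^ (n + 1), x = 0 := by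
    intro W _ x hx
    refine TopCat.Presheaf.section_ext N.left.sheaf W x 0 fun y hy => ?_
    have h1 := map_nilradical_pow_le (N.left.presheaf.germ W y hy).hom (n + 1) (Ideal.mem_map_of_mem _ hx)
    rw [htop y, Ideal.mem_bot] at h1
    exact h1.trans (map_zero _).symm
  obtain ⟨U₀, hU₀, he, -⟩ := exists_isAffineOpen_mem_and_subset
    (show η[N].left o ∈ (⊤ : N.left.Opens) from trivial)
  obtain ⟨V, hpV, hest⟩ := exists_estimate N j hU₀ o he n
  -- the points `(1, 1)`
  have hone : ∀ {T : Over S} (t : T.left),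
      (lift (1 : T ⟶ N) (1 : T ⟶ H)).left t ∈ V := by
    intro T t
    have : lift (1 : T ⟶ N) (1 : T ⟶ H) = toUnit T ≫ lift 1 1 := by
      rw [comp_lift, MonObj.comp_one, MonObj.comp_one]
    rw [this, Over.comp_left, Scheme.Hom.comp_apply, Subsingleton.elim (α := S) ((toUnit T).left t) o]
    exact hpV
  have hinf : ∀ {U : N.left.Opens} {r : opN N U ⟶ H}, redHom N j U ≫ r = inclH N j U →
      ⊤ ≤ (toInf N j r).left ⁻¹ᵁ U₀ := by
    intro U r hr
    haveI : Surjective (redHom N j U).left := IsZariskiLocalAtTarget.restrict (P := @Surjective) ‹_› U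
    refine range_of_red (redHom N j U) _ _ (fun z => ?_) U₀ he
    rw [red_toInf N j hr]; exact one_left_apply N z o
  -- independence of the retraction
  have hindep : ∀ {U : N.left.Opens}, IsAffineOpen U → ∀ {r r' : opN N U ⟶ H}
      (hr : redHom N j U ≫ r = inclH N j U) (hr' : redHom N j U ≫ r' = inclH N j U),
      ∀ s ∈ nilradical Γ(N.left, U₀) ^ n,
      (toInf N j r).left.appLE U₀ ⊤ (hinf hr) s = (toInf N j r').left.appLE U₀ ⊤ (hinf hr') s := by
    intro U hU r r' hr hr' s hs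
    haveI : Surjective (redHom N j U).left := IsZariskiLocalAtTarget.restrict (P := @Surjective) ‹_› U
    haveI : CompactSpace (opN N U).left := isCompact_iff_compactSpace.1 hU.isCompact
    let q : opN N U ⟶ N ⊗ H := lift (toInf N j r) (r * r'⁻¹)
    let q₀ : opN N U ⟶ N ⊗ H := lift (toInf N j r) 1
    have hq : q ≫ mu N j = toInf N j r' := by
      rw [comp_mu, MonObj.mul_comp, GrpObj.inv_comp]
      simp only [toInf, _root_.mul_assoc, inv_mul_cancel_left]
    have hq₀ : q₀ ≫ mu N j = toInf N j r := by rw [comp_mu, MonObj.one_comp, _root_.mul_one]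
    have hcq : redHom N j U ≫ q = lift 1 1 := by
      rw [comp_lift, red_toInf N j hr, MonObj.comp_mul, GrpObj.comp_inv, hr, hr', mul_inv_cancel]
    have hcq₀ : redHom N j U ≫ q₀ = lift 1 1 := by rw [comp_lift, red_toInf N j hr, MonObj.comp_one]
    have hV : ∀ q' : opN N U ⟶ N ⊗ H, redHom N j U ≫ q' = lift 1 1 → ⊤ ≤ q'.left ⁻¹ᵁ V := by
      intro q' h t _
      obtain ⟨z, rfl⟩ := (redHom N j U).left.surjective t
      show q'.left ((redHom N j U).left z) ∈ V
      rw [← Scheme.Hom.comp_apply, ← Over.comp_left, h]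
      exact hone z
    have h1 := hest (redHom N j U) q q₀ (by rw [lift_fst, lift_fst]) (hcq.trans hcq₀.symm) (hV q hcq) (hV q₀ hcq₀)
      (by rw [hq]; exact hinf hr') (by rw [hq₀]; exact hinf hr) s hs
    have h2 : RingHom.ker (redHom N j U).left.appTop.hom * nilradical Γ((opN N U).left, ⊤) ^ n ≤ ⊥ := by
      refine (mul_le_mul' (ker_appTop_le_nilradical _) le_rfl).trans ?_
      rw [← pow_succ']
      intro x hx
      have h3 := map_nilradical_pow_le U.topIso.hom.hom (n + 1) (Ideal.mem_map_of_mem _ hx)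
      rw [Ideal.mem_bot]
      refine ((ConcreteCategory.bijective_of_isIso U.topIso.hom).1 ?_)
      rw [hzero hU _ h3, map_zero]
    have h3 := Ideal.mem_bot.1 (h2 h1)
    rw [sub_eq_zero] at h3
    simp only [hq, hq₀] at h3
    exact h3.symm
  choose ret hret using fun U : N.left.affineOpens => exists_ret N j U.2
  -- the global function
  have hfun : ∀ s ∈ nilradical Γ(N.left, U₀) ^ n, ∀ U : N.left.affineOpens,
      (toInf N j (ret U)).left.appLE U₀ ⊤ (hinf (hret U)) s = 0 := by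
    intro s hs
    let g : ∀ U : N.left.affineOpens, Γ(N.left, U.1) := fun U =>
      U.1.topIso.hom ((toInf N j (ret U)).left.appLE U₀ ⊤ (hinf (hret U)) s)
    have hg : ∀ U, g U ∈ nilradical Γ(N.left, U.1) ^ n := fun U =>
      map_nilradical_pow_le U.1.topIso.hom.hom n (Ideal.mem_map_of_mem _
        (map_nilradical_pow_le ((toInf N j (ret U)).left.appLE U₀ ⊤ (hinf (hret U))).hom n
          (Ideal.mem_map_of_mem _ hs)))
    have hres : ∀ (U W : N.left.affineOpens) (h : W.1 ≤ U.1),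
        N.left.presheaf.map (homOfLE h).op (g U) = g W := by
      intro U W h
      let a : opN N W.1 ⟶ opN N U.1 := Over.homMk (N.left.homOfLE h) (by simp)
      let b : opH N j W.1 ⟶ opH N j U.1 := Over.homMk (H.left.homOfLE (j.left.preimage_mono h)) (by simp)
      have hab : redHom N j W.1 ≫ a = b ≫ redHom N j U.1 := Over.OverMorphism.ext (by
        show (j.left ∣_ W.1) ≫ N.left.homOfLE h = H.left.homOfLE (j.left.preimage_mono h) ≫ (j.left ∣_ U.1)
        rw [← cancel_mono U.1.ι]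
        simp)
      have hbi : b ≫ inclH N j U.1 = inclH N j W.1 :=
        Over.OverMorphism.ext (Scheme.homOfLE_ι H.left (j.left.preimage_mono h))
      have hai : a ≫ inclN N U.1 = inclN N W.1 := Over.OverMorphism.ext (Scheme.homOfLE_ι N.left h)
      have hr : redHom N j W.1 ≫ a ≫ ret U = inclH N j W.1 := by
        rw [reassoc_of% hab, hret U, hbi]
      have hy : a ≫ toInf N j (ret U) = toInf N j (a ≫ ret U) := by
        rw [MonObj.comp_mul, GrpObj.comp_inv, hai]
        simp only [toInf, Category.assoc]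
      have key := hindep W.2 hr (hret W) s hs
      show N.left.presheaf.map (homOfLE h).op
        (U.1.topIso.hom ((toInf N j (ret U)).left.appLE U₀ ⊤ (hinf (hret U)) s)) = _
      simp only [g, ← key, ← hy, Over.comp_left]
      have e : (toInf N j (ret U)).left.appLE U₀ ⊤ (hinf (hret U)) ≫ (N.left.homOfLE h).appTop =
          (N.left.homOfLE h ≫ (toInf N j (ret U)).left).appLE U₀ ⊤
            (by have := hinf hr; rwa [← hy] at this) := by
        rw [show (N.left.homOfLE h).appTop = (N.left.homOfLE h).appLE ⊤ ⊤ le_top from Scheme.Hom.app_eq_appLE _,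
          Scheme.Hom.appLE_comp_appLE]
      have e2 : U.1.topIso.hom ≫ N.left.presheaf.map (homOfLE h).op =
          (N.left.homOfLE h).appTop ≫ W.1.topIso.hom := by
        simp [Scheme.homOfLE_appTop, ← Functor.map_comp]
      refine (congr($e2 _)).trans ?_
      exact congrArg W.1.topIso.hom congr($e s)
    obtain ⟨f, hf, -⟩ := TopCat.Sheaf.existsUnique_gluing' N.left.sheaf
      (fun U : N.left.affineOpens => U.1) ⊤ (fun U => homOfLE le_top)
      (by rw [iSup_affineOpens_eq_top]) g (fun U W => by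
        have hUW : IsAffineOpen (U.1 ⊓ W.1) := U.2.inf W.2
        exact (hres U ⟨_, hUW⟩ inf_le_left).trans (hres W ⟨_, hUW⟩ inf_le_right).symm)
    have hpow : f ^ (n + 1) = 0 := by
      refine TopCat.Sheaf.eq_of_locally_eq' N.left.sheaf
        (fun U : N.left.affineOpens => U.1) ⊤ (fun U => homOfLE le_top)
        (by rw [iSup_affineOpens_eq_top]) _ _ fun U => ?_
      rw [map_pow, map_zero, hf U]
      refine hzero U.2 _ (Ideal.pow_mem_pow ?_ (n + 1))
      exact Ideal.pow_le_self hn (hg U)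
    obtain ⟨c, rfl⟩ := hN.2 f
    have hc : c = 0 := (IsNilpotent.eq_zero (R := K) ⟨n + 1, hN.1 (by rw [map_pow, hpow, map_zero])⟩)
    subst hc
    intro U
    have h1 : g U = 0 := by rw [← hf U, map_zero, map_zero]
    refine (ConcreteCategory.bijective_of_isIso U.1.topIso.hom).1 ?_
    rw [map_zero]
    exact h1
  -- at the origin
  let U : N.left.affineOpens := ⟨U₀, hU₀⟩
  let r := ret U
  let ρH : 𝟙_ (Over S) ⟶ opH N j U₀ := Over.homMk
    (IsOpenImmersion.lift (j.left ⁻¹ᵁ U₀).ι η[H].left (by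
      rintro _ ⟨t, rfl⟩
      erw [Scheme.Opens.range_ι]
      show j.left (η[H].left t) ∈ U₀
      rw [← Scheme.Hom.comp_apply, ← Over.comp_left, IsMonHom.one_hom, Subsingleton.elim (α := S) t o]
      exact he)) (by
      show _ ≫ (j.left ⁻¹ᵁ U₀).ι ≫ H.hom = _
      rw [IsOpenImmersion.lift_fac_assoc]; exact Over.w η[H])
  have hρH : ρH ≫ inclH N j U₀ = 1 := by
    rw [Hom.one_def, toUnit_unique (toUnit (𝟙_ (Over S))) (𝟙 _), Category.id_comp]
    exact Over.OverMorphism.ext (IsOpenImmersion.lift_fac _ _ _)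
  let ρ : 𝟙_ (Over S) ⟶ opN N U₀ := ρH ≫ redHom N j U₀
  let q : opN N U₀ ⟶ N ⊗ H := lift (toInf N j r) r
  let q₀ : opN N U₀ ⟶ N ⊗ H := lift (toInf N j r) 1
  have hq : q ≫ mu N j = inclN N U₀ := by
    rw [comp_mu]; simp only [toInf, inv_mul_cancel_right]
  have hq₀ : q₀ ≫ mu N j = toInf N j r := by rw [comp_mu, MonObj.one_comp, _root_.mul_one]
  have hρq : ρ ≫ q = lift 1 1 := by
    rw [comp_lift, Category.assoc, red_toInf N j (hret U), MonObj.comp_one, Category.assoc, hret U, hρH]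
  have hρq₀ : ρ ≫ q₀ = lift 1 1 := by
    rw [comp_lift, Category.assoc, red_toInf N j (hret U), MonObj.comp_one, MonObj.comp_one]
  let e₀ : (opN N U₀).left := ρ.left o
  have he₀ : U₀.ι e₀ = η[N].left o := by
    have h1 : ρ ≫ inclN N U₀ = 1 := by
      rw [Category.assoc, redHom_incl, reassoc_of% hρH, MonObj.one_comp]
    refine Eq.trans ?_ (one_left_apply N (T := 𝟙_ (Over S)) o o)
    rw [← h1, Over.comp_left, Scheme.Hom.comp_apply]
    rfl
  have heq : e₀ ∈ q.left ⁻¹ᵁ V ⊓ q₀.left ⁻¹ᵁ V := by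
    constructor
    · show q.left (ρ.left o) ∈ V
      rw [← Scheme.Hom.comp_apply, ← Over.comp_left, hρq]; exact hpV
    · show q₀.left (ρ.left o) ∈ V
      rw [← Scheme.Hom.comp_apply, ← Over.comp_left, hρq₀]; exact hpV
  obtain ⟨W, hW, heW, hWle⟩ := exists_isAffineOpen_mem_and_subset
    (show η[N].left o ∈ U₀.ι ''ᵁ (q.left ⁻¹ᵁ V ⊓ q₀.left ⁻¹ᵁ V) from ⟨e₀, heq, he₀⟩)
  have hWU : W ≤ U₀ := fun x hx => by obtain ⟨y, -, rfl⟩ := hWle hx; exact y.2
  let a : opN N W ⟶ opN N U₀ := Over.homMk (N.left.homOfLE hWU) (by simp)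
  have hrange : ∀ t : (opN N W).left, a.left t ∈ q.left ⁻¹ᵁ V ⊓ q₀.left ⁻¹ᵁ V := fun t => by
    obtain ⟨y, hy, e⟩ := hWle t.2
    have : a.left t = y := U₀.ι.isOpenEmbedding.injective (by
      have h1 : U₀.ι (a.left t) = W.ι t := congr($(Scheme.homOfLE_ι N.left hWU) t)
      exact h1.trans e.symm)
    rw [this]; exact hy
  let σ : 𝟙_ (Over S) ⟶ opN N W := Over.homMk
    (IsOpenImmersion.lift W.ι η[N].left (by
      rintro _ ⟨t, rfl⟩
      erw [Scheme.Opens.range_ι]
      rw [Subsingleton.elim (α := S) t o]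
      exact heW)) (by
      show _ ≫ W.ι ≫ N.hom = _
      rw [IsOpenImmersion.lift_fac_assoc]; exact Over.w η[N])
  have hσa : σ ≫ a = ρ := by
    haveI : Mono (inclN N U₀) := Over.mono_of_mono_left _
    rw [← cancel_mono (inclN N U₀)]
    have h1 : ρ ≫ inclN N U₀ = η[N] := by
      rw [Category.assoc, redHom_incl, reassoc_of% hρH, MonObj.one_comp, Hom.one_def,
        toUnit_unique (toUnit (𝟙_ (Over S))) (𝟙 _), Category.id_comp]
    rw [h1]
    exact Over.OverMorphism.ext (by simp [σ, a])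
  have hlocal : ∀ s ∈ nilradical Γ(N.left, U₀) ^ n,
      (a ≫ inclN N U₀).left.appLE U₀ ⊤ (fun t _ => (a.left t).2) s ∈
        RingHom.ker σ.left.appTop.hom * nilradical Γ((opN N W).left, ⊤) ^ n := by
    intro s hs
    have e1 : (a ≫ q) ≫ mu N j = a ≫ inclN N U₀ := by rw [Category.assoc, hq]
    have e2 : (a ≫ q₀) ≫ mu N j = a ≫ toInf N j r := by rw [Category.assoc, hq₀]
    have hz : ⊤ ≤ (a ≫ toInf N j r).left ⁻¹ᵁ U₀ := fun t _ => hinf (hret U) (Set.mem_univ (a.left t))
    have h1 := hest σ (a ≫ q) (a ≫ q₀) (by rw [Category.assoc, Category.assoc, lift_fst, lift_fst])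
      (by rw [reassoc_of% hσa, reassoc_of% hσa, hρq, hρq₀]) (fun t _ => (hrange t).1) (fun t _ => (hrange t).2)
      (by rw [e1]; exact fun t _ => (a.left t).2) (by rw [e2]; exact hz) s hs
    simp only [e1, e2] at h1
    have h0 : (a ≫ toInf N j r).left.appLE U₀ ⊤ hz s = 0 := by
      have : (toInf N j r).left.appLE U₀ ⊤ (hinf (hret U)) ≫ a.left.appLE ⊤ ⊤ le_top =
          (a ≫ toInf N j r).left.appLE U₀ ⊤ hz := Scheme.Hom.appLE_comp_appLE _ _ _ _ _ _ _
      rw [← this, CommRingCat.comp_apply, hfun s hs U, map_zero]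
    rwa [h0, sub_zero] at h1
  -- Nakayama
  let O := N.left.presheaf.stalk (η[N].left o)
  let gm : Γ((opN N W).left, ⊤) →+* O := (N.left.presheaf.germ W (η[N].left o) heW).hom.comp W.topIso.hom.hom
  have hker : (RingHom.ker σ.left.appTop.hom).map gm ≤ IsLocalRing.maximalIdeal O := by
    refine Ideal.map_le_iff_le_comap.2 fun d hd => ?_
    rw [Ideal.mem_comap, IsLocalRing.mem_maximalIdeal, mem_nonunits_iff]
    intro hu
    have h1 : η[N].left o ∈ N.left.basicOpen (W.topIso.hom d) :=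
      (N.left.mem_basicOpen _ _ heW).2 hu
    have h2 : σ.left o ∈ (opN N W).left.basicOpen d := by
      have e : W.ι (σ.left o) = η[N].left o := by
        have h1 : σ.left ≫ W.ι = η[N].left := IsOpenImmersion.lift_fac _ _ _
        exact congr($h1 o)
      have := Scheme.Opens.ι_image_basicOpen_topIso_inv W (W.topIso.hom d)
      rw [Iso.hom_inv_id_apply] at this
      rw [← this, ← e] at h1
      obtain ⟨y, hy, hye⟩ := h1
      rwa [W.ι.isOpenEmbedding.injective hye] at hy
    have h3 : (o : ↥S) ∈ σ.left ⁻¹ᵁ (opN N W).left.basicOpen d := h2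
    rw [Scheme.preimage_basicOpen, show σ.left.app ⊤ d = 0 from hd, Scheme.basicOpen_zero] at h3
    exact h3
  have hgen : nilradical O ^ n ≤ (IsLocalRing.maximalIdeal O) • (nilradical O ^ n) := by
    letI := TopCat.Presheaf.algebra_section_stalk N.left.presheaf ⟨η[N].left o, he⟩
    haveI := hU₀.isLocalization_stalk ⟨η[N].left o, he⟩
    have hJ : nilradical O ^ n = (nilradical Γ(N.left, U₀) ^ n).map (algebraMap _ O) := by
      rw [Ideal.map_pow]
      exact congrArg (· ^ n) (nilradical_localization (hU₀.primeIdealOf ⟨η[N].left o, he⟩).asIdeal.primeCompl)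
    conv_lhs => rw [hJ]
    refine Ideal.map_le_iff_le_comap.2 fun s hs => ?_
    rw [Ideal.mem_comap, smul_eq_mul]
    have h1 := Ideal.mem_map_of_mem gm (hlocal s hs)
    rw [Ideal.map_mul] at h1
    have h2 := Ideal.mul_mono hker (map_nilradical_pow_le gm n) h1
    convert h2 using 1
    show N.left.presheaf.germ U₀ (η[N].left o) he s = _
    have e : W.topIso.hom ((a ≫ inclN N U₀).left.appLE U₀ ⊤ (fun t _ => (a.left t).2) s) =
        N.left.presheaf.map (homOfLE hWU).op s := by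
      have : (a ≫ inclN N U₀).left = W.ι := Scheme.homOfLE_ι N.left hWU
      simp only [this]
      simp [Scheme.Opens.ι_appLE]
      rw [← CommRingCat.comp_apply, ← Functor.map_comp]
      rfl
    show _ = N.left.presheaf.germ W (η[N].left o) heW (W.topIso.hom _)
    rw [e, TopCat.Presheaf.germ_res_apply]
  haveI : IsNoetherianRing O := inferInstance
  exact Submodule.eq_bot_of_le_smul_of_le_jacobson_bot (IsLocalRing.maximalIdeal O) _
    (IsNoetherian.noetherian _) hgen (IsLocalRing.maximalIdeal_le_jacobson _)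

end Glue

end GrothLib.AntiAffSmooth14
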