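import Groth.Agent.Lib.RedSmooth.Basic
import Mathlib

/-!
Ring lemmas on the nilradical.
-/

set_option autoImplicit false

universe u

open scoped TensorProduct

namespace GrothLib.AntiAffSmooth14

variable {B C D : Type u} [CommRing B] [CommRing C] [CommRing D]

theorem map_nilradical_le (f : B →+* C) : (nilradical B).map f ≤ nilradical C :=
  Ideal.map_le_iff_le_comap.2 fun _ hx => (mem_nilradical.1 hx).map f

theorem map_nilradical_pow_le (f : B →+* C) (n : ℕ) : (nilradical B ^ n).map f ≤ nilradical C ^ n := by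
  rw [Ideal.map_pow]
  exact Ideal.pow_right_mono (map_nilradical_le f) n

theorem nilradical_localization (M : Submonoid B) [Algebra B C] [IsLocalization M C] :
    nilradical C = (nilradical B).map (algebraMap B C) := by
  refine le_antisymm (fun x hx => ?_) (map_nilradical_le _)
  obtain ⟨⟨b, t⟩, rfl⟩ := IsLocalization.mk'_surjective M x
  dsimp only at hx ⊢
  obtain ⟨m, hm⟩ := mem_nilradical.1 hx
  rw [← IsLocalization.mk'_pow, IsLocalization.mk'_eq_zero_iff] at hm
  obtain ⟨s, hs⟩ := hm
  have h1 : IsNilpotent ((s : B) * b) := ⟨m + 1, by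
    rw [mul_pow, pow_succ (s : B), pow_succ b]
    linear_combination ((s : B) ^ m * b) * hs⟩
  have e : IsLocalization.mk' C b t = algebraMap B C ((s : B) * b) * IsLocalization.mk' C 1 (s * t) := by
    rw [IsLocalization.mul_mk'_eq_mk'_of_mul, _root_.mul_one, IsLocalization.mk'_eq_iff_eq]
    rw [Submonoid.coe_mul]
    ring_nf
  rw [e]
  exact Ideal.mul_mem_right _ _ (Ideal.mem_map_of_mem _ (mem_nilradical.2 h1))

theorem nilradical_le_of_smooth (f : B →+* D) (hf : f.Smooth) : nilradical D ≤ (nilradical B).map f := by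
  algebraize [f]
  let J := (nilradical B).map f
  haveI : _root_.IsReduced (B ⧸ nilradical B) :=
    (Ideal.isRadical_iff_quotient_reduced _).1 (Ideal.radical_isRadical ⊥)
  haveI : _root_.IsReduced ((B ⧸ nilradical B) ⊗[B] D) :=
    GrothLib.RedSmooth.isReduced_of_algebra_smooth (B ⧸ nilradical B) _
  let e : (D ⧸ J) ≃+* (B ⧸ nilradical B) ⊗[B] D :=
    ((Algebra.TensorProduct.quotIdealMapEquivTensorQuot D (nilradical B)).toRingEquiv.trans
      (Algebra.TensorProduct.comm B D (B ⧸ nilradical B)).toRingEquiv)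
  haveI : _root_.IsReduced (D ⧸ J) := isReduced_of_injective e e.injective
  intro x hx
  exact Ideal.Quotient.eq_zero_iff_mem.1 ((mem_nilradical.1 hx).map (Ideal.Quotient.mk J)).eq_zero

/-- The calculation: two homomorphisms agreeing on the base and congruent modulo `M` agree up to `M` on
products with nilpotents. -/
theorem sub_mem_of_congr (f : B →+* D) (φ φ' : D →+* C) (hB : φ.comp f = φ'.comp f) (M : Ideal C)
    (hM : ∀ d, φ d - φ' d ∈ M) {n : ℕ} {x : D} (hx : x ∈ (nilradical B ^ n).map f) :
    φ x - φ' x ∈ M * nilradical C ^ n := by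
  have key : ∀ x ∈ (nilradical B ^ n).map f, φ x - φ' x ∈ M * nilradical C ^ n ∧ φ' x ∈ nilradical C ^ n := by
    intro x hx
    refine Submodule.span_induction ?_ ?_ ?_ ?_ hx
    · rintro _ ⟨b, hb, rfl⟩
      refine ⟨?_, ?_⟩
      · rw [show φ (f b) = φ' (f b) from DFunLike.congr_fun hB b, sub_self]
        exact zero_mem _
      · exact map_nilradical_pow_le (φ'.comp f) n (Ideal.mem_map_of_mem _ hb)
    · simp
    · intro a b _ _ ha hb
      refine ⟨?_, by rw [map_add]; exact add_mem ha.2 hb.2⟩
      rw [map_add, map_add, show φ a + φ b - (φ' a + φ' b) = (φ a - φ' a) + (φ b - φ' b) by ring]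
      exact add_mem ha.1 hb.1
    · intro d a _ ha
      refine ⟨?_, by rw [smul_eq_mul, map_mul]; exact Ideal.mul_mem_left _ _ ha.2⟩
      rw [smul_eq_mul, map_mul, map_mul, show φ d * φ a - φ' d * φ' a = φ d * (φ a - φ' a) + (φ d - φ' d) * φ' a by ring]
      exact add_mem (Ideal.mul_mem_left _ _ ha.1) (Ideal.mul_mem_mul (hM d) ha.2)
  exact (key x hx).1

end GrothLib.AntiAffSmooth14
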